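import Groth.Agent.Lib.Lambda.Ch
import Groth.Agent.Lib.Lambda.SplitSpecial

/-!
The Chern character is a rational isomorphism.
-/

set_option autoImplicit false

open Finset LambdaRing TensorProduct KGr Groth.Agent.Lib.Lambda
open LaurentPolynomial

noncomputable section

namespace Groth.Agent.H68.Chern

universe u

variable {K : Type u} [CommRing K] [LambdaOps K] {P : PosStructure K}

/-- The monomials of the Rees ring. -/
def monSet (P : PosStructure K) : Set (LaurentPolynomial K) :=
  {p | ∃ (i : ℤ) (x : K), x ∈ gammaFiltration P (-i).toNat ∧ p = C x * T i}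

lemma monSet_mul {a b : LaurentPolynomial K} (ha : a ∈ monSet P) (hb : b ∈ monSet P) : a * b ∈ monSet P := by
  obtain ⟨i, x, hx, rfl⟩ := ha
  obtain ⟨j, y, hy, rfl⟩ := hb
  refine ⟨i + j, x * y, gammaFiltration_anti (by omega) (mul_mem_gammaFiltration hx hy), ?_⟩
  rw [map_mul, T_add]
  ring

lemma rees_le_closure {p : LaurentPolynomial K} (hp : p ∈ rees P) : p ∈ AddSubgroup.closure (monSet P) := by
  have h1 : (1 : LaurentPolynomial K) ∈ monSet P := ⟨0, 1, mem_gammaFiltration_zero _, by simp⟩
  induction hp using Subring.closure_induction with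
  | mem x hx =>
    refine AddSubgroup.subset_closure ?_
    rcases Set.mem_insert_iff.mp hx with rfl | ⟨n, y, hy, rfl⟩
    · exact ⟨1, 1, mem_gammaFiltration_zero _, by simp⟩
    · exact ⟨-(n : ℤ), y, by simpa using hy, rfl⟩
  | zero => exact zero_mem _
  | one => exact AddSubgroup.subset_closure h1
  | add a b _ _ ha hb => exact add_mem ha hb
  | neg a _ ha => exact neg_mem ha
  | mul a b hA hB ha hb =>
    clear hA hB
    induction ha using AddSubgroup.closure_induction with
    | mem x hx =>
      induction hb using AddSubgroup.closure_induction with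
      | mem y hy => exact AddSubgroup.subset_closure (monSet_mul hx hy)
      | zero => rw [mul_zero]; exact zero_mem _
      | add y z _ _ hy hz => rw [mul_add]; exact add_mem hy hz
      | neg y _ hy => rw [mul_neg]; exact neg_mem hy
    | zero => rw [zero_mul]; exact zero_mem _
    | add y z _ _ hy hz => rw [add_mul]; exact add_mem hy hz
    | neg y _ hy => rw [neg_mul]; exact neg_mem hy

lemma coeff_mon (x : K) (i j : ℤ) : (C x * T i).coeff j = if i = j then x else 0 := by
  rw [← single_eq_C_mul_T]
  exact Finsupp.single_apply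

lemma coeff_mem {p : LaurentPolynomial K} (hp : p ∈ rees P) (j : ℤ) : p.coeff j ∈ gammaFiltration P (-j).toNat := by
  have h := rees_le_closure hp
  clear hp
  induction h using AddSubgroup.closure_induction with
  | mem x hx =>
    obtain ⟨i, y, hy, rfl⟩ := hx
    rw [coeff_mon]
    split_ifs with h
    · subst h; exact hy
    · exact zero_mem _
  | zero => exact zero_mem _
  | add a b _ _ ha hb => exact add_mem ha hb
  | neg a _ ha => exact neg_mem ha

/-- The quotient by a step of the filtration. -/
abbrev Quo (P : PosStructure K) (n : ℕ) : Type u := K ⧸ gammaFiltration P n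

/-- The coefficient in degree `n` on the Rees ring. -/
def coeffHom (P : PosStructure K) (n : ℕ) : rees P →+ Quo P (n + 1) where
  toFun p := QuotientAddGroup.mk' _ ((p : LaurentPolynomial K).coeff (-(n : ℤ)))
  map_zero' := by simp
  map_add' a b := by simp

lemma coeffHom_span (n : ℕ) {p : rees P} (hp : p ∈ Ideal.span {tGen P}) : coeffHom P n p = 0 := by
  obtain ⟨q, rfl⟩ := Ideal.mem_span_singleton'.mp hp
  show QuotientAddGroup.mk' _ (((q * tGen P : rees P) : LaurentPolynomial K).coeff (-(n : ℤ))) = 0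
  refine (QuotientAddGroup.eq_zero_iff _).mpr ?_
  have h : (((q * tGen P : rees P) : LaurentPolynomial K)).coeff (-(n : ℤ)) =
      (q : LaurentPolynomial K).coeff (-((n + 1 : ℕ) : ℤ)) := by
    show ((q : LaurentPolynomial K) * T 1).coeff (-(n : ℤ)) = _
    rw [show (-((n + 1 : ℕ) : ℤ)) = -(n : ℤ) - 1 by push_cast; ring]
    induction (q : LaurentPolynomial K) using LaurentPolynomial.induction_on' with
    | add a b ha hb => simp [add_mul, ha, hb]
    | C_mul_T m c =>
      rw [mul_assoc, ← T_add, coeff_mon, coeff_mon]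
      congr 1
      exact propext ⟨fun h => by omega, fun h => by omega⟩
  rw [h]
  have := coeff_mem q.2 (-((n + 1 : ℕ) : ℤ))
  simpa using this

/-- The component in degree `n` of the integral graded ring. -/
def compZ (P : PosStructure K) (n : ℕ) : GrZ P →ₗ[ℤ] Quo P (n + 1) :=
  (QuotientAddGroup.lift (Ideal.span {tGen P}).toAddSubgroup (coeffHom P n)
    (fun _ hp => coeffHom_span n hp)).toIntLinearMap

/-- The component in degree `n`. -/
def comp (P : PosStructure K) (n : ℕ) : Gr P →ₗ[ℚ] ℚ ⊗[ℤ] Quo P (n + 1) := (compZ P n).baseChange ℚ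

/-- The component in degree `n` on the copy. -/
def compQ (P : PosStructure K) (n : ℕ) : GrQ P →ₗ[ℚ] ℚ ⊗[ℤ] Quo P (n + 1) where
  toFun x := comp P n x
  map_add' := map_add (comp P n)
  map_smul' := map_smul (comp P n)

lemma compQ_gq (n r : ℕ) {x : K} (hx : x ∈ gammaFiltration P r) :
    compQ P n (gq P r x) = if r = n then (1 : ℚ) ⊗ₜ[ℤ] QuotientAddGroup.mk' _ x else 0 := by
  show comp P n (grK P (r : ℤ) x) = _
  rw [grK_eq hx]
  show (1 : ℚ) ⊗ₜ[ℤ] QuotientAddGroup.mk' (gammaFiltration P (n + 1)) ((C x * T (-(r : ℤ))).coeff (-(n : ℤ))) = _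
  rw [coeff_mon]
  by_cases h : r = n
  · rw [if_pos (by omega), if_pos h]
  · rw [if_neg (by omega), if_neg h, map_zero, tmul_zero]

lemma compQ_grDeg {n r : ℕ} (h : r ≠ n) {z : GrQ P} (hz : z ∈ grDeg P r) : compQ P n z = 0 := by
  induction hz using Submodule.span_induction with
  | mem x hx =>
    obtain ⟨y, hy, rfl⟩ := hx
    rw [compQ_gq n r hy, if_neg h]
  | zero => exact map_zero _
  | add a b _ _ ha hb => rw [map_add, ha, hb, add_zero]
  | smul c a _ ha => rw [map_smul, ha, smul_zero]

lemma totSum_add (d : ℕ) (F G : PowerSeries (GrQ P)) : totSum d (F + G) = totSum d F + totSum d G := by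
  simp [totSum, Finset.sum_add_distrib]

lemma chK_add (hK : HasSplitting K P) (d : ℕ) (x y : K) : chK P d (x + y) = chK P d x + chK P d y := by
  apply toQ_injective
  rw [map_add (toQ P)]
  obtain ⟨a, rfl⟩ := kerEval_surjective (P := P) x
  obtain ⟨b, rfl⟩ := kerEval_surjective (P := P) y
  rw [← map_add (kerEval P)]
  simp only [kerEval]
  rw [chK_eq_totSum hK (kerVal P) (fun a => a.2), chK_eq_totSum hK (kerVal P) (fun a => a.2),
    chK_eq_totSum hK (kerVal P) (fun a => a.2), map_add, totSum_add]

theorem chK_leading (hK : HasSplitting K P) (d : ℕ) {n : ℕ} {x : K} (hx : x ∈ gammaFiltration P n) :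
    ∃ c : ℕ → GrQ P, (∀ r, c r ∈ grDeg P r) ∧ (∀ r, r < n → c r = 0) ∧ c n = gq P n x ∧
      toQ P (chK P d x) = ∑ r ∈ range (d + 1), c r := by
  obtain ⟨z, hz, rfl⟩ := exists_of_mem_gammaFiltration hK hx
  refine ⟨fun r => PowerSeries.coeff r (serGr P (kerVal P) z), serGr_mem _ (fun a => a.2) z, fun r hr => ?_, ?_, ?_⟩
  · obtain ⟨w, hw⟩ := dvd_theta_of_mem hz
    show PowerSeries.coeff r (PowerSeries.map (coordGr P (kerVal P)) (theta z)) = 0
    rw [PowerSeries.coeff_map, hw, PowerSeries.coeff_X_pow_mul', if_neg (by omega), map_zero]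
  · show PowerSeries.coeff n (PowerSeries.map (coordGr P (kerVal P)) (theta z)) = _
    rw [PowerSeries.coeff_map, coordGr_coeff_theta (kerVal P) (fun a => a.2) hz]
    rfl
  · exact chK_eq_totSum hK (kerVal P) (fun a => a.2) d z

lemma grQ_mem_iSup (z : GrQ P) : z ∈ ⨆ r, grDeg P r := by
  have key : ∀ g : GrZ P, toQ P ((1 : ℚ) ⊗ₜ[ℤ] g) ∈ ⨆ r, grDeg P r := by
    intro g
    obtain ⟨⟨p, hp⟩, rfl⟩ := Ideal.Quotient.mk_surjective g
    have h := rees_le_closure hp
    induction h using AddSubgroup.closure_induction with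
    | mem q hq =>
      obtain ⟨i, x, hx, rfl⟩ := hq
      rcases le_or_gt i 0 with hi | hi
      · obtain ⟨n, rfl⟩ : ∃ n : ℕ, i = -(n : ℤ) := ⟨(-i).toNat, by omega⟩
        have hx' : x ∈ gammaFiltration P n := by simpa using hx
        refine Submodule.mem_iSup_of_mem n ?_
        have := gq_mem_grDeg (P := P) hx'
        rwa [gq, grK_eq hx'] at this
      · obtain ⟨n, rfl⟩ : ∃ n : ℕ, i = ((n + 1 : ℕ) : ℤ) := ⟨(i - 1).toNat, by omega⟩
        have hq0 : Ideal.Quotient.mk (Ideal.span {tGen P}) (⟨C x * T ((n + 1 : ℕ) : ℤ), hp⟩ : rees P) = 0 := by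
          refine Ideal.Quotient.eq_zero_iff_mem.mpr (Ideal.mem_span_singleton.mpr ?_)
          have hxr : C x ∈ rees P := by
            have := mem_rees_of_mem (P := P) (n := 0) (mem_gammaFiltration_zero x)
            simpa using this
          refine ⟨⟨C x * T (n : ℤ), mul_mem hxr ?_⟩, Subtype.ext ?_⟩
          · have := pow_mem (tGen P).2 n
            rwa [show ((tGen P : rees P) : LaurentPolynomial K) = T 1 from rfl, T_pow, mul_one] at this
          · show C x * T ((n + 1 : ℕ) : ℤ) = T 1 * (C x * T (n : ℤ))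
            rw [mul_left_comm, ← T_add]
            congr 2
            push_cast
            ring
        rw [hq0, tmul_zero, map_zero]
        exact zero_mem _
    | zero =>
      rw [show (⟨0, hp⟩ : rees P) = 0 from rfl, map_zero, tmul_zero, map_zero]
      exact zero_mem _
    | add a b ha hb iha ihb =>
      have ha' : a ∈ rees P := (AddSubgroup.closure_le (K := (rees P).toAddSubgroup)).mpr (monSet_subset_rees) ha
      have hb' : b ∈ rees P := (AddSubgroup.closure_le (K := (rees P).toAddSubgroup)).mpr (monSet_subset_rees) hb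
      rw [show (⟨a + b, hp⟩ : rees P) = ⟨a, ha'⟩ + ⟨b, hb'⟩ from rfl, map_add, tmul_add, map_add]
      exact add_mem (iha ha') (ihb hb')
    | neg a ha iha =>
      have ha' : a ∈ rees P := (AddSubgroup.closure_le (K := (rees P).toAddSubgroup)).mpr (monSet_subset_rees) ha
      rw [show (⟨-a, hp⟩ : rees P) = -⟨a, ha'⟩ from rfl, map_neg, tmul_neg, map_neg]
      exact neg_mem (iha ha')
  obtain ⟨y, rfl⟩ : ∃ y : Gr P, toQ P y = z := ⟨z, rfl⟩
  induction y using TensorProduct.induction_on with
  | zero => rw [map_zero]; exact zero_mem _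
  | tmul q g =>
    have : (q : ℚ) ⊗ₜ[ℤ] g = q • ((1 : ℚ) ⊗ₜ[ℤ] g) := by rw [TensorProduct.smul_tmul', smul_eq_mul, mul_one]
    rw [this, map_smul]
    exact Submodule.smul_mem _ _ (key g)
  | add a b ha hb => rw [map_add]; exact add_mem ha hb
where
  monSet_subset_rees : monSet P ⊆ ((rees P).toAddSubgroup : Set (LaurentPolynomial K)) := by
    rintro _ ⟨i, x, hx, rfl⟩
    rcases le_or_gt i 0 with hi | hi
    · obtain ⟨n, rfl⟩ : ∃ n : ℕ, i = -(n : ℤ) := ⟨(-i).toNat, by omega⟩
      exact mem_rees_of_mem (by simpa using hx)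
    · obtain ⟨n, rfl⟩ : ∃ n : ℕ, i = (n : ℤ) := ⟨i.toNat, by omega⟩
      show C x * T (n : ℤ) ∈ rees P
      have hxr : C x ∈ rees P := by
        have := mem_rees_of_mem (P := P) (n := 0) (mem_gammaFiltration_zero x)
        simpa using this
      have := pow_mem (tGen P).2 n
      rw [show ((tGen P : rees P) : LaurentPolynomial K) = T 1 from rfl, T_pow, mul_one] at this
      exact mul_mem hxr this

/-- The linear extension of the Chern character. -/
def chLin (hK : HasSplitting K P) (d : ℕ) : ℚ ⊗[ℤ] K →ₗ[ℚ] Gr P :=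
  LinearMap.liftBaseChange ℚ (AddMonoidHom.toIntLinearMap
    { toFun := chK P d
      map_zero' := by
        have h := chK_add hK d 0 0
        rw [add_zero] at h
        exact left_eq_add.1 h
      map_add' := chK_add hK d })

lemma chLin_tmul (hK : HasSplitting K P) (d : ℕ) (x : K) : chLin hK d ((1 : ℚ) ⊗ₜ[ℤ] x) = chK P d x := by
  rw [chLin, LinearMap.liftBaseChange_tmul, one_smul]
  rfl

/-- A step of the filtration as a `ℤ`-module. -/
abbrev filMod (P : PosStructure K) (n : ℕ) : Submodule ℤ K := (gammaFiltration P n).toIntSubmodule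

theorem chLin_injective (hK : HasSplitting K P) {d : ℕ} (hd : gammaFiltration P (d + 1) = ⊥) :
    Function.Injective (chLin hK d) := by
  rw [injective_iff_map_eq_zero]
  intro u hu
  have key : ∀ n, n ≤ d + 1 → u ∈ LinearMap.range ((filMod P n).subtype.baseChange ℚ) := by
    intro n
    induction n with
    | zero =>
      intro _
      suffices ∀ v : ℚ ⊗[ℤ] K, v ∈ LinearMap.range ((filMod P 0).subtype.baseChange ℚ) from this u
      intro v
      induction v using TensorProduct.induction_on with
      | zero => exact zero_mem _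
      | tmul q x => exact ⟨q ⊗ₜ[ℤ] (⟨x, mem_gammaFiltration_zero (P := P) x⟩ : filMod P 0), rfl⟩
      | add a b ha hb => exact add_mem ha hb
    | succ n ih =>
      intro hn
      obtain ⟨w, rfl⟩ := ih (by omega)
      have hcomp : (compQ P n).comp ((toQ P).toLinearMap.comp ((chLin hK d).comp ((filMod P n).subtype.baseChange ℚ))) =
          ((QuotientAddGroup.mk' (gammaFiltration P (n + 1))).toIntLinearMap.comp (filMod P n).subtype).baseChange ℚ := by
        refine TensorProduct.AlgebraTensorModule.curry_injective ?_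
        ext x
        show compQ P n (toQ P (chLin hK d ((1 : ℚ) ⊗ₜ[ℤ] (x : K)))) = (1 : ℚ) ⊗ₜ[ℤ] _
        obtain ⟨c, hc, hlow, hn', hsum⟩ := chK_leading hK d x.2
        rw [chLin_tmul, hsum, map_sum, Finset.sum_eq_single n]
        · rw [hn', compQ_gq n n x.2, if_pos rfl]
          rfl
        · exact fun r _ hr => compQ_grDeg hr (hc r)
        · intro h; exact absurd (Finset.mem_range.mpr (by omega)) h
      have h0 : ((QuotientAddGroup.mk' (gammaFiltration P (n + 1))).toIntLinearMap.comp (filMod P n).subtype).baseChange ℚ w = 0 := by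
        rw [← hcomp]
        simp only [LinearMap.comp_apply, hu, map_zero]
      have hex : Function.Exact ((filMod P (n + 1)).subtype.lTensor ℚ)
          ((QuotientAddGroup.mk' (gammaFiltration P (n + 1))).toIntLinearMap.lTensor ℚ) := by
        refine lTensor_exact ℚ ?_ (QuotientAddGroup.mk'_surjective _)
        rw [LinearMap.exact_iff]
        ext x
        simp [filMod]
      rw [LinearMap.baseChange_comp] at h0
      obtain ⟨w', hw'⟩ := (hex _).mp h0
      exact ⟨w', hw'⟩
  obtain ⟨w, rfl⟩ := key (d + 1) le_rfl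
  have hz : (filMod P (d + 1)).subtype = 0 := by
    ext x
    have hx : (x : K) ∈ gammaFiltration P (d + 1) := x.2
    rw [hd, AddSubgroup.mem_bot] at hx
    simpa using hx
  rw [hz, LinearMap.baseChange_zero]
  rfl

theorem chLin_surjective (hK : HasSplitting K P) {d : ℕ} (hd : gammaFiltration P (d + 1) = ⊥) :
    Function.Surjective (chLin hK d) := by
  let Φ : ℚ ⊗[ℤ] K →ₗ[ℚ] GrQ P := (toQ P).toLinearMap.comp (chLin hK d)
  have key : ∀ m n, d + 1 ≤ n + m → grDeg P n ≤ LinearMap.range Φ := by
    intro m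
    induction m with
    | zero => intro n hn z hz; rw [grDeg_eq_zero hd (by omega) hz]; exact zero_mem _
    | succ m ih =>
      intro n hn
      by_cases hdn : d < n
      · intro z hz; rw [grDeg_eq_zero hd hdn hz]; exact zero_mem _
      rw [grDeg, Submodule.span_le]
      rintro _ ⟨x, hx, rfl⟩
      obtain ⟨c, hc, hlow, hn', hsum⟩ := chK_leading hK d hx
      rw [← Finset.add_sum_erase (range (d + 1)) c (Finset.mem_range.mpr (show n < d + 1 by omega)), hn'] at hsum
      have hrest : ∑ r ∈ (range (d + 1)).erase n, c r ∈ LinearMap.range Φ := by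
        refine sum_mem fun r hr => ?_
        rcases lt_or_gt_of_ne (Finset.ne_of_mem_erase hr) with hlt | hgt
        · rw [hlow r hlt]; exact zero_mem _
        · exact ih r (by omega) (hc r)
      have hΦ : Φ ((1 : ℚ) ⊗ₜ[ℤ] x) ∈ LinearMap.range Φ := ⟨_, rfl⟩
      rw [show Φ ((1 : ℚ) ⊗ₜ[ℤ] x) = gq P n x + ∑ r ∈ (range (d + 1)).erase n, c r by
        exact (congrArg (toQ P) (chLin_tmul hK d x)).trans hsum] at hΦ
      have := sub_mem hΦ hrest
      rwa [add_sub_cancel_right] at this
  intro z
  have hle : (⨆ r, grDeg P r) ≤ LinearMap.range Φ := iSup_le fun r => key (d + 1) r (by omega)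
  obtain ⟨u, hu⟩ := hle (grQ_mem_iSup (toQ P z))
  exact ⟨u, toQ_injective hu⟩

end Groth.Agent.H68.Chern
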